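import Mathlib

/-!
# The Sylow `p`-subgroup `C_p wr C_p` of `GL(p, F)` for `p ∥ |F| - 1`

Matrices are indexed by `ZMod p`. We show that every element normalizing the wreath product is
monomial, that the wreath product is a maximal `p`-subgroup, and that every element of it has
a conjugate Sylow subgroup different from it that still contains it.
-/

set_option autoImplicit false

namespace Cfsg.Agent.GLSylowWreath

open Matrix

variable {p : ℕ} [Fact p.Prime] {F : Type*} [Field F]

/-- Matrix with entry `d i` at `(i, π i)` and zero elsewhere. -/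
def matP (π : ZMod p → ZMod p) (d : ZMod p → F) : Matrix (ZMod p) (ZMod p) F :=
  Matrix.of fun i j => if j = π i then d i else 0

lemma matP_apply (π : ZMod p → ZMod p) (d : ZMod p → F) (i j : ZMod p) :
    matP π d i j = if j = π i then d i else 0 := rfl

lemma matP_mul_apply (π : ZMod p → ZMod p) (d : ZMod p → F)
    (M : Matrix (ZMod p) (ZMod p) F) (i k : ZMod p) :
    (matP π d * M) i k = d i * M (π i) k := by
  rw [Matrix.mul_apply, Finset.sum_eq_single (π i)]
  · rw [matP_apply, if_pos rfl]
  · intro b _ hb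
    rw [matP_apply, if_neg hb, zero_mul]
  · exact fun h => absurd (Finset.mem_univ _) h

lemma matP_mul (π π' : ZMod p → ZMod p) (d d' : ZMod p → F) :
    matP π d * matP π' d' = matP (fun i => π' (π i)) (fun i => d i * d' (π i)) := by
  ext i k
  rw [matP_mul_apply, matP_apply, matP_apply, mul_ite, mul_zero]

lemma one_eq_matP : (1 : Matrix (ZMod p) (ZMod p) F) = matP id (fun _ => 1) := by
  ext i j
  rw [matP_apply, Matrix.one_apply]
  by_cases h : i = j
  · subst h; simp
  · rw [if_neg h, if_neg (fun e => h e.symm)]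

lemma matP_inj {π π' : ZMod p → ZMod p} {d d' : ZMod p → F} (hd : ∀ i, d i ≠ 0)
    (h : matP π d = matP π' d') : π = π' ∧ d = d' := by
  have key : ∀ i, π i = π' i ∧ d i = d' i := by
    intro i
    have := congrFun (congrFun h i) (π i)
    rw [matP_apply, matP_apply, if_pos rfl] at this
    by_cases e : π i = π' i
    · rw [if_pos e] at this
      exact ⟨e, this⟩
    · rw [if_neg e] at this
      exact absurd this (hd i)
  exact ⟨funext fun i => (key i).1, funext fun i => (key i).2⟩

lemma matP_shift_pow (c : ZMod p) (d : ZMod p → F) (n : ℕ) :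
    ∃ e : ZMod p → F, matP (fun i => i + c) d ^ n = matP (fun i => i + (n : ZMod p) * c) e := by
  induction n with
  | zero =>
    exact ⟨fun _ => 1, by rw [pow_zero, one_eq_matP]; congr 1; ext i; simp⟩
  | succ n ih =>
    obtain ⟨e, he⟩ := ih
    refine ⟨fun i => e i * d (i + (n : ZMod p) * c), ?_⟩
    rw [pow_succ, he, matP_mul]
    congr 1
    ext i
    push_cast
    ring

lemma matP_diag_pow (d : ZMod p → F) (n : ℕ) :
    matP id d ^ n = matP id (fun i => d i ^ n) := by
  induction n with
  | zero => simp [one_eq_matP]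
  | succ n ih =>
    rw [pow_succ, ih, matP_mul]
    congr 1
    ext i
    exact (pow_succ (d i) n).symm

/-- The wreath product `μ_p wr C_p` as a submonoid of `GL`. -/
def wreathMonoid (p : ℕ) [Fact p.Prime] (F : Type*) [Field F] : Submonoid (GL (ZMod p) F) where
  carrier := {g | ∃ (c : ZMod p) (d : ZMod p → F), (∀ i, d i ^ p = 1) ∧
    (g : Matrix (ZMod p) (ZMod p) F) = matP (· + c) d}
  one_mem' := ⟨0, fun _ => 1, fun _ => one_pow p, by
    rw [Units.val_one, one_eq_matP]; congr 1; ext i; simp⟩
  mul_mem' := by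
    rintro g h ⟨c, d, hd, hg⟩ ⟨c', d', hd', hh⟩
    refine ⟨c + c', fun i => d i * d' (i + c), fun i => ?_, ?_⟩
    · rw [mul_pow, hd, hd', one_mul]
    · rw [Units.val_mul, hg, hh, matP_mul]
      congr 1
      ext i
      exact add_assoc _ _ _

/-- The wreath product `μ_p wr C_p` as a subgroup of `GL`. -/
def wreath (p : ℕ) [Fact p.Prime] (F : Type*) [Field F] [Finite F] : Subgroup (GL (ZMod p) F) :=
  { wreathMonoid p F with
    inv_mem' := by
      intro g hg
      have h : g⁻¹ = g ^ (orderOf g - 1) := by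
        rw [inv_eq_iff_mul_eq_one, ← pow_succ',
          Nat.sub_add_cancel (orderOf_pos g), pow_orderOf_eq_one]
      rw [h]
      exact (wreathMonoid p F).pow_mem hg _ }

variable [Finite F]

lemma mem_wreath {g : GL (ZMod p) F} :
    g ∈ wreath p F ↔ ∃ (c : ZMod p) (d : ZMod p → F), (∀ i, d i ^ p = 1) ∧
      (g : Matrix (ZMod p) (ZMod p) F) = matP (· + c) d := Iff.rfl

omit [Finite F] in
lemma ne_zero_of_pow_eq_one {z : F} (h : z ^ p = 1) : z ≠ 0 := by
  intro h0
  rw [h0, zero_pow (Fact.out : p.Prime).ne_zero] at h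
  exact zero_ne_one h

lemma wreath_pow_sq {g : GL (ZMod p) F} (hg : g ∈ wreath p F) : g ^ (p ^ 2) = 1 := by
  obtain ⟨c, d, hd, hgd⟩ := mem_wreath.mp hg
  obtain ⟨c', d', hd', hgd'⟩ := mem_wreath.mp (pow_mem hg p)
  obtain ⟨e, he⟩ := matP_shift_pow c d p
  rw [Units.val_pow_eq_pow_val, hgd, he] at hgd'
  have hc := (matP_inj (fun i => ne_zero_of_pow_eq_one (hd' i)) hgd'.symm).1
  have hc0 : c' = 0 := by
    have := congrFun hc 0
    simpa using this
  have hgp : ((g ^ p : GL (ZMod p) F) : Matrix (ZMod p) (ZMod p) F) = matP id d' := by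
    rw [Units.val_pow_eq_pow_val, hgd, he, hgd', hc0]
    congr 1
    ext i
    simp
  apply Units.ext
  rw [sq, pow_mul, Units.val_pow_eq_pow_val, hgp, matP_diag_pow, Units.val_one, one_eq_matP]
  congr 1
  ext i
  exact hd' i

lemma wreath_isPGroup : IsPGroup p (wreath p F) := by
  intro g
  exact ⟨2, Subtype.ext (by simpa using wreath_pow_sq g.2)⟩

/-- Each row has at most one nonzero entry. -/
def RowMono (g : Matrix (ZMod p) (ZMod p) F) : Prop :=
  ∀ i j k, g i j ≠ 0 → g i k ≠ 0 → j = k

variable (ζ : F) (hζ : IsPrimitiveRoot ζ p) (hp2 : p ≠ 2)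

include hζ in
omit [Finite F] in
lemma zpowVal_inj {a b : ZMod p} (h : ζ ^ a.val = ζ ^ b.val) : a = b :=
  ZMod.val_injective p (hζ.pow_inj (ZMod.val_lt a) (ZMod.val_lt b) h)

omit [Finite F] in
/-- A diagonal matrix with unit entries, as an element of `GL`. -/
def diagUnit (d : ZMod p → F) (hd : ∀ i, d i ≠ 0) : GL (ZMod p) F where
  val := matP id d
  inv := matP id fun i => (d i)⁻¹
  val_inv := by
    rw [matP_mul, one_eq_matP]
    congr 1
    ext i
    exact mul_inv_cancel₀ (hd i)
  inv_val := by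
    rw [matP_mul, one_eq_matP]
    congr 1
    ext i
    exact inv_mul_cancel₀ (hd i)

include hζ hp2 in
theorem rowMono_of_mem_normalizer {g : GL (ZMod p) F}
    (hg : ∀ n ∈ wreath p F, g * n * g⁻¹ ∈ wreath p F) :
    RowMono (g : Matrix (ZMod p) (ZMod p) F) := by
  classical
  have hζp : ∀ m : ℕ, (ζ ^ m) ^ p = 1 := fun m => by rw [← pow_mul, mul_comm, pow_mul,
    hζ.pow_eq_one, one_pow]
  let D : (ZMod p → ZMod p) → GL (ZMod p) F := fun k =>
    diagUnit (fun i => ζ ^ (k i).val) (fun i => ne_zero_of_pow_eq_one (hζp _))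
  have hDmem : ∀ k, D k ∈ wreath p F := fun k =>
    mem_wreath.mpr ⟨0, fun i => ζ ^ (k i).val, fun i => hζp _, by
      show matP id _ = _
      congr 1
      ext i
      simp⟩
  have hDcomm : ∀ k l, D k * D l = D l * D k := fun k l => Units.ext (by
    show matP id _ * matP id _ = matP id _ * matP id _
    rw [matP_mul, matP_mul]
    congr 1
    ext i
    exact mul_comm _ _)
  have hy : ∀ k, ∃ (c : ZMod p) (a : ZMod p → F), (∀ i, a i ^ p = 1) ∧
      ((g * D k * g⁻¹ : GL (ZMod p) F) : Matrix (ZMod p) (ZMod p) F) = matP (· + c) a :=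
    fun k => mem_wreath.mp (hg _ (hDmem k))
  choose c a ha hya using hy
  have hrel : ∀ k l i, a k i * a l (i + c k) = a l i * a k (i + c l) := by
    intro k l i
    have h1 : (g * D k * g⁻¹) * (g * D l * g⁻¹) = (g * D l * g⁻¹) * (g * D k * g⁻¹) := by
      have := congrArg (fun z => g * z * g⁻¹) (hDcomm k l)
      simpa [mul_assoc] using this
    have h2 := congrArg (fun z : GL (ZMod p) F => (z : Matrix (ZMod p) (ZMod p) F)) h1
    simp only [Units.val_mul (g * D k * g⁻¹), Units.val_mul (g * D l * g⁻¹), hya,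
      matP_mul] at h2
    exact congrFun (matP_inj (fun i => mul_ne_zero (ne_zero_of_pow_eq_one (ha k i))
      (ne_zero_of_pow_eq_one (ha l _))) h2).2 i
  have hc0 : c id = 0 := by
    by_contra hne
    let R : Type _ := {z : F // z ^ p = 1}
    have hsurj : Function.Surjective
        (fun m : ZMod p => (⟨ζ ^ m.val, hζp _⟩ : R)) := by
      rintro ⟨z, hz⟩
      obtain ⟨m, hm, hmz⟩ := hζ.eq_pow_of_pow_eq_one hz
      exact ⟨(m : ZMod p), Subtype.ext (by
        show ζ ^ (m : ZMod p).val = z
        rw [ZMod.val_natCast_of_lt hm, hmz])⟩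
    have : Finite R := Finite.of_surjective _ hsurj
    have hR : Nat.card R ≤ p := by
      simpa [Nat.card_zmod] using Nat.card_le_card_of_surjective _ hsurj
    let f : (ZMod p → ZMod p) → ZMod p × R := fun k => (c k, ⟨a k 0, ha k 0⟩)
    have hinj : Function.Injective f := by
      intro k l hkl
      obtain ⟨hckl, hakl⟩ := Prod.ext_iff.mp hkl
      change c k = c l at hckl
      have hakl' : a k 0 = a l 0 := congrArg Subtype.val hakl
      have hm : ∀ m : ℕ, a k ((m : ZMod p) * c id) = a l ((m : ZMod p) * c id) := by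
        intro m
        induction m with
        | zero => simpa using hakl'
        | succ m ih =>
          have h1 := hrel id k ((m : ZMod p) * c id)
          have h2 := hrel id l ((m : ZMod p) * c id)
          rw [← hckl, ← ih] at h2
          have h3 : a k ((m : ZMod p) * c id + c id) = a l ((m : ZMod p) * c id + c id) :=
            mul_left_cancel₀ (ne_zero_of_pow_eq_one (ha id _)) (h1.trans h2.symm)
          simpa [Nat.cast_succ, add_mul] using h3
      have hall : a k = a l := by
        ext i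
        have := hm (i / c id).val
        rwa [ZMod.natCast_zmod_val, div_mul_cancel₀ _ hne] at this
      have hy : g * D k * g⁻¹ = g * D l * g⁻¹ := Units.ext (by rw [hya, hya, hckl, hall])
      have hD : D k = D l := mul_left_cancel (mul_right_cancel hy)
      have h4 := congrArg (fun z : GL (ZMod p) F => (z : Matrix (ZMod p) (ZMod p) F)) hD
      have h5 := (matP_inj (fun i => ne_zero_of_pow_eq_one (hζp _)) h4).2
      ext i
      exact zpowVal_inj ζ hζ (congrFun h5 i)
    have h6 := Nat.card_le_card_of_injective f hinj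
    rw [Nat.card_fun, Nat.card_zmod, Nat.card_prod, Nat.card_zmod] at h6
    have h7 : p ^ p ≤ p * p := h6.trans (Nat.mul_le_mul_left p hR)
    have h3p : 2 < p := lt_of_le_of_ne (Fact.out : p.Prime).two_le (Ne.symm hp2)
    have h8 : p ^ 2 < p ^ p := Nat.pow_lt_pow_right (Fact.out : p.Prime).one_lt h3p
    rw [sq] at h8
    omega
  intro i j k hj hk
  have h1 := hya id
  rw [hc0] at h1
  have hmul : (g * D id * g⁻¹) * g = g * D id := by group
  have h2 := congrArg (fun z : GL (ZMod p) F => (z : Matrix (ZMod p) (ZMod p) F)) hmul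
  simp only [Units.val_mul (g * D id * g⁻¹), Units.val_mul g (D id), h1] at h2
  have hcol : ∀ j, (g : Matrix (ZMod p) (ZMod p) F) i j ≠ 0 → ζ ^ j.val = a id i := by
    intro j hj
    have h3 := congrFun (congrFun h2 i) j
    rw [matP_mul_apply, Matrix.mul_apply, Finset.sum_eq_single j] at h3
    · change a id i * (g : Matrix (ZMod p) (ZMod p) F) (i + 0) j
        = (g : Matrix (ZMod p) (ZMod p) F) i j * matP id (fun i => ζ ^ (id i).val) j j at h3
      rw [matP_apply, if_pos (id_eq j).symm, add_zero, mul_comm] at h3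
      exact (mul_left_cancel₀ hj h3).symm
    · intro b _ hb
      show _ * matP id _ b j = 0
      rw [matP_apply, if_neg (fun e => hb (by simpa using e.symm)), mul_zero]
    · exact fun h => absurd (Finset.mem_univ _) h
  exact zpowVal_inj ζ hζ ((hcol j hj).trans (hcol k hk).symm)

omit [Finite F] in
lemma exists_matP_of_rowMono {g : GL (ZMod p) F}
    (hg : RowMono (g : Matrix (ZMod p) (ZMod p) F)) :
    ∃ (π : ZMod p → ZMod p) (d : ZMod p → F), (∀ i, d i ≠ 0) ∧
      (g : Matrix (ZMod p) (ZMod p) F) = matP π d := by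
  have hdet : (g : Matrix (ZMod p) (ZMod p) F).det ≠ 0 :=
    ((Matrix.isUnit_iff_isUnit_det _).mp g.isUnit).ne_zero
  have hrow : ∀ i, ∃ j, (g : Matrix (ZMod p) (ZMod p) F) i j ≠ 0 := by
    intro i
    by_contra h
    push Not at h
    exact hdet (Matrix.det_eq_zero_of_row_eq_zero i h)
  choose π hπ using hrow
  refine ⟨π, fun i => (g : Matrix (ZMod p) (ZMod p) F) i (π i), hπ, ?_⟩
  ext i j
  rw [matP_apply]
  by_cases h : j = π i
  · rw [if_pos h, h]
  · rw [if_neg h]
    by_contra hne
    exact h (hg i j (π i) hne (hπ i))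

/-- The shift matrix as an element of the wreath product. -/
def shift (c : ZMod p) : GL (ZMod p) F where
  val := matP (· + c) fun _ => 1
  inv := matP (· + -c) fun _ => 1
  val_inv := by
    rw [matP_mul, one_eq_matP]
    congr 1
    · ext i; simp
    · ext i; simp
  inv_val := by
    rw [matP_mul, one_eq_matP]
    congr 1
    · ext i; simp
    · ext i; simp

lemma shift_mem (c : ZMod p) : (shift c : GL (ZMod p) F) ∈ wreath p F :=
  mem_wreath.mpr ⟨c, fun _ => 1, fun _ => one_pow p, rfl⟩

include hζ hp2 in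
theorem mem_wreath_of_normalizes (hsq : ¬ p ^ 2 ∣ Nat.card F - 1)
    {P : Subgroup (GL (ZMod p) F)} (hP : IsPGroup p P) (hQP : wreath p F ≤ P)
    {g : GL (ZMod p) F} (hgP : g ∈ P) (hg : ∀ n ∈ wreath p F, g * n * g⁻¹ ∈ wreath p F) :
    g ∈ wreath p F := by
  obtain ⟨π, d, hd, hgd⟩ := exists_matP_of_rowMono (rowMono_of_mem_normalizer ζ hζ hp2 hg)
  obtain ⟨c, a, ha, hca⟩ := mem_wreath.mp (hg _ (shift_mem (1 : ZMod p)))
  have hmul : (g * shift 1 * g⁻¹) * g = g * shift 1 := by group
  have h2 := congrArg (fun z : GL (ZMod p) F => (z : Matrix (ZMod p) (ZMod p) F)) hmul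
  simp only [Units.val_mul (g * shift 1 * g⁻¹), Units.val_mul g (shift 1), hca, hgd] at h2
  change matP (· + c) a * matP π d = matP π d * matP (· + (1 : ZMod p)) (fun _ => 1) at h2
  rw [matP_mul, matP_mul] at h2
  have hπ : ∀ i, π (i + c) = π i + 1 := congrFun
    (matP_inj (fun i => mul_ne_zero (ne_zero_of_pow_eq_one (ha i)) (hd _)) h2).1
  have hm : ∀ (m : ℕ) i, π (i + m * c) = π i + m := by
    intro m
    induction m with
    | zero => simp
    | succ m ih =>
      intro i
      rw [Nat.cast_succ, add_mul, one_mul, ← add_assoc, hπ, ih, add_assoc]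
  have hcne : c ≠ 0 := by
    intro h
    have := hπ 0
    rw [h, add_zero] at this
    exact one_ne_zero (add_left_cancel (this.symm.trans (add_zero _).symm))
  have haff : ∀ i, π i = c⁻¹ * i + π 0 := by
    intro i
    have h := hm (i / c).val 0
    rw [ZMod.natCast_zmod_val, zero_add, div_mul_cancel₀ _ hcne] at h
    rw [h, div_eq_inv_mul, add_comm]
  have hpow : ∀ n : ℕ, ∃ (b : ZMod p) (e : ZMod p → F),
      ((g ^ n : GL (ZMod p) F) : Matrix (ZMod p) (ZMod p) F) =
        matP (fun i => c⁻¹ ^ n * i + b) e := by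
    intro n
    induction n with
    | zero =>
      exact ⟨0, fun _ => 1, by rw [pow_zero, Units.val_one, one_eq_matP]; congr 1; ext i; simp⟩
    | succ n ih =>
      obtain ⟨b, e, he⟩ := ih
      refine ⟨c⁻¹ * b + π 0, fun i => e i * d (c⁻¹ ^ n * i + b), ?_⟩
      rw [pow_succ, Units.val_mul, he, hgd, matP_mul]
      congr 1
      ext i
      rw [haff, pow_succ]
      ring
  obtain ⟨k, hk⟩ := hP ⟨g, hgP⟩
  have hk' : g ^ (p ^ k) = 1 := congrArg Subtype.val hk
  obtain ⟨b, e, he⟩ := hpow (p ^ k)
  rw [hk', Units.val_one, one_eq_matP] at he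
  have hid := (matP_inj (fun _ => one_ne_zero) he).1
  have hb : b = 0 := by
    have := congrFun hid 0
    simpa using this.symm
  have hu : c⁻¹ = 1 := by
    have := congrFun hid 1
    rw [hb, add_zero, mul_one, ZMod.pow_card_pow] at this
    exact this.symm
  have hgd' : (g : Matrix (ZMod p) (ZMod p) F) = matP (· + π 0) d := by
    rw [hgd]
    congr 1
    ext i
    rw [haff, hu, one_mul]
  have ht : g * shift (-π 0) ∈ P := P.mul_mem hgP (hQP (shift_mem _))
  have htd : ((g * shift (-π 0) : GL (ZMod p) F) : Matrix (ZMod p) (ZMod p) F) = matP id d := by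
    rw [Units.val_mul, hgd']
    show matP _ d * matP _ _ = _
    rw [matP_mul]
    congr 1
    · ext i; simp
    · ext i; simp
  obtain ⟨n, hn⟩ := hP ⟨_, ht⟩
  have hn' : (g * shift (-π 0)) ^ (p ^ n) = 1 := congrArg Subtype.val hn
  have h3 := congrArg (fun z : GL (ZMod p) F => (z : Matrix (ZMod p) (ZMod p) F)) hn'
  simp only [Units.val_pow_eq_pow_val, htd, matP_diag_pow, Units.val_one, one_eq_matP] at h3
  have hdn : ∀ i, d i ^ (p ^ n) = 1 :=
    congrFun (matP_inj (fun i => pow_ne_zero _ (hd i)) h3).2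
  have hdp : ∀ i, d i ^ p = 1 := by
    intro i
    have hq : d i ^ (Nat.card F - 1) = 1 := by
      have := Fintype.ofFinite F
      rw [Nat.card_eq_fintype_card]
      exact FiniteField.pow_card_sub_one_eq_one _ (hd i)
    obtain ⟨j, -, hj⟩ :=
      (Nat.dvd_prime_pow (Fact.out : p.Prime)).mp (orderOf_dvd_of_pow_eq_one (hdn i))
    have hj1 : j ≤ 1 := by
      by_contra hlt
      exact hsq ((pow_dvd_pow p (by omega : 2 ≤ j)).trans (hj ▸ orderOf_dvd_of_pow_eq_one hq))
    apply orderOf_dvd_iff_pow_eq_one.mp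
    rw [hj]
    exact (pow_dvd_pow p hj1).trans (pow_one p).dvd
  exact mem_wreath.mpr ⟨π 0, d, hdp, hgd'⟩

include hζ hp2 in
theorem wreath_maximal (hsq : ¬ p ^ 2 ∣ Nat.card F - 1)
    {P : Subgroup (GL (ZMod p) F)} (hP : IsPGroup p P) (hQP : wreath p F ≤ P) :
    P = wreath p F := by
  by_contra hne
  have : Group.IsNilpotent P := hP.isNilpotent
  have hlt : (wreath p F).subgroupOf P < ⊤ := by
    rw [lt_top_iff_ne_top, Ne, Subgroup.subgroupOf_eq_top]
    exact fun h => hne (le_antisymm h hQP)
  have hN := Group.normalizerCondition_of_isNilpotent ((wreath p F).subgroupOf P) hlt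
  obtain ⟨x, hxN, hxQ⟩ := SetLike.exists_of_lt hN
  apply hxQ
  rw [Subgroup.mem_subgroupOf]
  refine mem_wreath_of_normalizes ζ hζ hp2 hsq hP hQP x.2 (fun n hn => ?_)
  have := (Subgroup.mem_normalizer_iff.mp hxN ⟨n, hQP hn⟩).mp (Subgroup.mem_subgroupOf.mpr hn)
  simpa [Subgroup.mem_subgroupOf] using this

end Cfsg.Agent.GLSylowWreath
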