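import Cfsg.Agent.GLSylowWreath.Basic

/-!
# The wreath product is a redundant Sylow `p`-subgroup of `GL(p, F)`
-/

set_option autoImplicit false

namespace Cfsg.Agent.GLSylowWreath

open Matrix

variable {p : ℕ} [Fact p.Prime] {F : Type*} [Field F]

lemma mul_matP_apply (M : Matrix (ZMod p) (ZMod p) F) (b : ZMod p) (e : ZMod p → F)
    (i k : ZMod p) : (M * matP (· + b) e) i k = M i (k - b) * e (k - b) := by
  rw [Matrix.mul_apply, Finset.sum_eq_single (k - b)]
  · rw [matP_apply, if_pos (sub_add_cancel k b).symm]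
  · intro j _ hj
    rw [matP_apply, if_neg (fun h => hj (by rw [h, add_sub_cancel_right])), mul_zero]
  · exact fun h => absurd (Finset.mem_univ _) h

lemma shift_pow_apply (c : ZMod p) (hc : c ≠ 0) (d : ZMod p → F) :
    (∑ j ∈ Finset.range p, matP (· + c) d ^ j) 0 0 = 1 ∧
      (∑ j ∈ Finset.range p, matP (· + c) d ^ j) 0 c = d 0 := by
  have h0 : ∀ (j : ℕ) (k : ZMod p), k ≠ j * c → (matP (· + c) d ^ j) 0 k = 0 := by
    intro j k hk
    obtain ⟨e, he⟩ := matP_shift_pow c d j
    rw [he, matP_apply, if_neg (by simpa using hk)]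
  have hp : 1 < p := (Fact.out : p.Prime).one_lt
  constructor
  · rw [Matrix.sum_apply, Finset.sum_eq_single 0]
    · simp
    · intro j hj hj0
      apply h0
      intro h
      apply hj0
      have h1 : (j : ZMod p) = 0 := (mul_eq_zero.mp h.symm).resolve_right hc
      have h2 := ZMod.val_natCast_of_lt (Finset.mem_range.mp hj)
      rw [h1, ZMod.val_zero] at h2
      exact h2.symm
    · exact fun h => absurd (Finset.mem_range.mpr (by omega)) h
  · rw [Matrix.sum_apply, Finset.sum_eq_single 1]
    · rw [pow_one, matP_apply, if_pos (zero_add c).symm]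
    · intro j hj hj1
      apply h0
      intro h
      apply hj1
      have h1 : (j : ZMod p) = 1 := mul_right_cancel₀ hc (by rw [one_mul]; exact h.symm)
      have h2 := ZMod.val_natCast_of_lt (Finset.mem_range.mp hj)
      rw [h1, ZMod.val_one] at h2
      exact h2.symm
    · exact fun h => absurd (Finset.mem_range.mpr hp) h

lemma exists_good_scalar [Finite F] (h4 : 4 ≤ Nat.card F) :
    ∃ b : F, b ≠ 0 ∧ 1 + b ≠ 0 ∧ 1 + (p : F) * b ≠ 0 := by
  classical
  have := Fintype.ofFinite F
  rw [Nat.card_eq_fintype_card] at h4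
  have hlt : ({0, -1, -(p : F)⁻¹} : Finset F).card < (Finset.univ : Finset F).card := by
    rw [Finset.card_univ]
    exact lt_of_le_of_lt Finset.card_le_three (by omega)
  obtain ⟨b, -, hb⟩ := Finset.exists_mem_notMem_of_card_lt_card hlt
  simp only [Finset.mem_insert, Finset.mem_singleton, not_or] at hb
  refine ⟨b, hb.1, fun h => hb.2.1 (eq_neg_of_add_eq_zero_right h), fun h => hb.2.2 ?_⟩
  have h1 : (p : F) * b = -1 := eq_neg_of_add_eq_zero_right h
  have hp0 : (p : F) ≠ 0 := by
    intro h0
    rw [h0, zero_mul] at h1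
    exact one_ne_zero (neg_eq_zero.mp h1.symm)
  field_simp
  linear_combination h1

theorem exists_escape [Finite F] (h4 : 4 ≤ Nat.card F) (hp2 : p ≠ 2)
    {x : GL (ZMod p) F} (hx : x ∈ wreath p F) :
    ∃ g : GL (ZMod p) F, ¬ RowMono (g : Matrix (ZMod p) (ZMod p) F) ∧
      g⁻¹ * x * g ∈ wreath p F := by
  obtain ⟨c, d, hd, hxd⟩ := mem_wreath.mp hx
  by_cases hc : c = 0
  · subst hc
    by_cases hinj : Function.Injective d
    · let e : Fin p ≃ ZMod p :=
        { toFun := fun j => (j.val : ZMod p)
          invFun := fun i => ⟨i.val, ZMod.val_lt i⟩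
          left_inv := fun j => Fin.ext (ZMod.val_natCast_of_lt j.isLt)
          right_inv := fun i => ZMod.natCast_zmod_val i }
      let V : Matrix (ZMod p) (ZMod p) F :=
        (Matrix.vandermonde (d ∘ e)).submatrix e.symm e.symm
      have hVapp : ∀ i j, V i j = d i ^ j.val := fun i j => by
        show d (e (e.symm i)) ^ j.val = _
        rw [Equiv.apply_symm_apply]
      have hdet : V.det ≠ 0 := by
        rw [Matrix.det_submatrix_equiv_self]
        exact Matrix.det_vandermonde_ne_zero_iff.mpr (hinj.comp e.injective)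
      let g : GL (ZMod p) F := Matrix.GeneralLinearGroup.mkOfDetNeZero V hdet
      have hgV : (g : Matrix (ZMod p) (ZMod p) F) = V := rfl
      refine ⟨g, ?_, ?_⟩
      · intro h
        have h0 : ∀ j, V 0 j ≠ 0 := fun j => by
          rw [hVapp]; exact pow_ne_zero _ (ne_zero_of_pow_eq_one (hd 0))
        rw [hgV] at h
        exact zero_ne_one (h 0 0 1 (h0 0) (h0 1))
      · have hcomm : x * g = g * shift (-1) := by
          apply Units.ext
          rw [Units.val_mul, Units.val_mul, hxd, hgV]
          show _ = V * matP (· + (-1 : ZMod p)) fun _ => 1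
          ext i k
          rw [matP_mul_apply, mul_matP_apply, add_zero, mul_one, hVapp, hVapp,
            sub_neg_eq_add, ZMod.val_add, ZMod.val_one, ← pow_succ']
          conv_lhs => rw [← Nat.mod_add_div (k.val + 1) p, pow_add, pow_mul, hd, one_pow, mul_one]
        rw [mul_assoc, hcomm, inv_mul_cancel_left]
        exact shift_mem _
    · simp only [Function.Injective, not_forall] at hinj
      obtain ⟨i, j, hij, hne⟩ := hinj
      let g : GL (ZMod p) F := Matrix.GeneralLinearGroup.mkOfDetNeZero
        (Matrix.transvection i j (1 : F)) (by rw [Matrix.det_transvection_of_ne _ _ hne]; exact one_ne_zero)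
      have hgT : (g : Matrix (ZMod p) (ZMod p) F) = 1 + Matrix.single i j 1 := rfl
      refine ⟨g, ?_, ?_⟩
      · intro h
        apply hne
        refine h i i j ?_ ?_
        · rw [hgT, Matrix.add_apply, Matrix.one_apply_eq,
            Matrix.single_apply_of_ne _ _ _ _ _ (fun e => hne e.2.symm), add_zero]
          exact one_ne_zero
        · rw [hgT, Matrix.add_apply, Matrix.one_apply_ne hne, Matrix.single_apply_same, zero_add]
          exact one_ne_zero
      · have hcomm : x * g = g * x := by
          apply Units.ext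
          rw [Units.val_mul, Units.val_mul, hxd, hgT, mul_add, add_mul, mul_one, one_mul]
          congr 1
          ext r s
          rw [matP_mul_apply, mul_matP_apply, add_zero, sub_zero]
          by_cases h : i = r ∧ j = s
          · rw [← h.1, ← h.2, hij, mul_comm]
          · rw [Matrix.single_apply_of_ne _ _ _ _ _ h, mul_zero, zero_mul]
        rwa [mul_assoc, hcomm, inv_mul_cancel_left]
  · set X : Matrix (ZMod p) (ZMod p) F := matP (· + c) d with hX
    obtain ⟨e, he⟩ := matP_shift_pow c d p
    have hpid : X ^ p = matP id e := by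
      rw [hX, he]
      congr 1
      ext i
      simp
    have hconst : ∀ i, e (i + c) = e i := by
      have h := pow_mul_comm' X p
      rw [hpid, hX, matP_mul, matP_mul] at h
      have he0 : ∀ i, e i ≠ 0 := by
        intro i h0
        have hu : IsUnit (X ^ p) := by rw [← hxd]; exact x.isUnit.pow p
        apply ((Matrix.isUnit_iff_isUnit_det _).mp hu).ne_zero
        refine Matrix.det_eq_zero_of_row_eq_zero i fun k => ?_
        rw [hpid, matP_apply, h0, ite_self]
      have h2 := (matP_inj (fun i => mul_ne_zero (he0 i) (ne_zero_of_pow_eq_one (hd _))) h).2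
      intro i
      have h3 : e i * d i = d i * e (i + c) := congrFun h2 i
      exact mul_left_cancel₀ (ne_zero_of_pow_eq_one (hd i)) (h3.symm.trans (mul_comm _ _))
    have hm : ∀ m : ℕ, e (m * c) = e 0 := by
      intro m
      induction m with
      | zero => simp
      | succ m ih => rw [Nat.cast_succ, add_mul, one_mul, hconst, ih]
    have hall : ∀ i, e i = e 0 := fun i => by
      have := hm (i / c).val
      rwa [ZMod.natCast_zmod_val, div_mul_cancel₀ _ hc] at this
    have hscal : X ^ p = e 0 • (1 : Matrix (ZMod p) (ZMod p) F) := by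
      rw [hpid, one_eq_matP]
      ext i k
      rw [Matrix.smul_apply, matP_apply, matP_apply, hall i, smul_eq_mul, mul_ite, mul_one,
        mul_zero]
    have hX00 : X 0 0 = 0 := by
      rw [hX, matP_apply, if_neg (by simpa using Ne.symm hc)]
    have hX0c : X 0 c = d 0 := by rw [hX, matP_apply, if_pos (zero_add c).symm]
    suffices h : ∃ g : GL (ZMod p) F, ¬ RowMono (g : Matrix (ZMod p) (ZMod p) F) ∧
        Commute (g : Matrix (ZMod p) (ZMod p) F) X by
      obtain ⟨g, hg, hgc⟩ := h
      refine ⟨g, hg, ?_⟩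
      have : x * g = g * x := Units.ext (by
        rw [Units.val_mul, Units.val_mul, hxd]; exact hgc.eq.symm)
      rwa [mul_assoc, this, inv_mul_cancel_left]
    by_cases hδ : e 0 = 1
    · obtain ⟨b, hb0, hb1, hb2⟩ := exists_good_scalar (p := p) h4
      set J : Matrix (ZMod p) (ZMod p) F := ∑ j ∈ Finset.range p, X ^ j with hJ
      have hJX : J * X = J := by
        have := geom_sum_mul X p
        rw [hscal, hδ, one_smul, sub_self, mul_sub, mul_one, ← hJ, sub_eq_zero] at this
        exact this
      have hJpow : ∀ j : ℕ, J * X ^ j = J := by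
        intro j
        induction j with
        | zero => rw [pow_zero, mul_one]
        | succ j ih => rw [pow_succ, ← mul_assoc, ih, hJX]
      have hJJ : J * J = (p : F) • J := by
        conv_lhs => arg 2; rw [hJ]
        rw [Finset.mul_sum, Finset.sum_congr rfl (fun j _ => hJpow j), Finset.sum_const,
          Finset.card_range, Nat.cast_smul_eq_nsmul]
      set b' : F := -b / (1 + (p : F) * b) with hb'
      have hcoef : b' + b + b * b' * (p : F) = 0 := by
        have h := div_mul_cancel₀ (-b) hb2
        rw [← hb'] at h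
        linear_combination h
      have hmul : (1 + b • J) * (1 + b' • J) = 1 := by
        rw [mul_add, mul_one, add_mul, one_mul, smul_mul_smul_comm, hJJ, smul_smul]
        calc 1 + b • J + (b' • J + (b * b' * (p : F)) • J)
            = 1 + (b' + b + b * b' * (p : F)) • J := by rw [add_smul, add_smul]; abel
          _ = 1 := by rw [hcoef, zero_smul, add_zero]
      let g : GL (ZMod p) F := ⟨1 + b • J, 1 + b' • J, hmul, mul_eq_one_comm.mp hmul⟩
      refine ⟨g, ?_, ?_⟩
      · intro h
        apply hc
        obtain ⟨hJ0, hJc⟩ := shift_pow_apply c hc d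
        refine (h 0 0 c ?_ ?_).symm
        · show (1 + b • J) 0 0 ≠ 0
          rw [Matrix.add_apply, Matrix.smul_apply, Matrix.one_apply_eq, hJ, hX, hJ0,
            smul_eq_mul, mul_one]
          exact hb1
        · show (1 + b • J) 0 c ≠ 0
          rw [Matrix.add_apply, Matrix.smul_apply, Matrix.one_apply_ne (Ne.symm hc), hJ, hX, hJc,
            smul_eq_mul, zero_add]
          exact mul_ne_zero hb0 (ne_zero_of_pow_eq_one (hd 0))
      · show Commute (1 + b • J) X
        exact (Commute.one_left X).add_left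
          ((Commute.sum_left _ _ _ fun j _ => Commute.pow_self X j).smul_left b)
    · have hodd : Odd p := (Fact.out : p.Prime).odd_of_ne_two hp2
      have hδ1 : 1 + e 0 ≠ 0 := by
        intro h
        apply hδ
        have hneg : e 0 = -1 := eq_neg_of_add_eq_zero_right h
        have hxp := mem_wreath.mp (pow_mem hx p)
        obtain ⟨c', d', hd', hh⟩ := hxp
        rw [Units.val_pow_eq_pow_val, hxd, hpid] at hh
        have he' := (matP_inj (fun i => ne_zero_of_pow_eq_one (hd' i)) hh.symm).2
        have h5 := hd' 0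
        rw [he', hneg, hodd.neg_one_pow] at h5
        rw [hneg, h5]
      have hgeom := mul_neg_geom_sum (-X) p
      rw [sub_neg_eq_add, hodd.neg_pow, sub_neg_eq_add, hscal] at hgeom
      have hmul : (1 + X) * ((1 + e 0)⁻¹ • ∑ j ∈ Finset.range p, (-X) ^ j) = 1 := by
        rw [mul_smul_comm, hgeom, ← one_smul F (1 : Matrix (ZMod p) (ZMod p) F)]
        rw [smul_smul, ← add_smul, smul_smul, mul_one, inv_mul_cancel₀ hδ1]
      let g : GL (ZMod p) F := ⟨1 + X, _, hmul, mul_eq_one_comm.mp hmul⟩
      refine ⟨g, ?_, ?_⟩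
      · intro h
        apply hc
        refine (h 0 0 c ?_ ?_).symm
        · show (1 + X) 0 0 ≠ 0
          rw [Matrix.add_apply, Matrix.one_apply_eq, hX00, add_zero]
          exact one_ne_zero
        · show (1 + X) 0 c ≠ 0
          rw [Matrix.add_apply, Matrix.one_apply_ne (Ne.symm hc), hX0c, zero_add]
          exact ne_zero_of_pow_eq_one (hd 0)
      · show Commute (1 + X) X
        exact (Commute.one_left X).add_left (Commute.refl X)

theorem exists_redundant [Finite F] (hp2 : p ≠ 2) (h1 : p ∣ Nat.card F - 1)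
    (h2 : ¬ p ^ 2 ∣ Nat.card F - 1) :
    ∃ Q : Sylow p (GL (ZMod p) F), ∀ x : GL (ZMod p) F,
      (∃ k : ℕ, orderOf x = p ^ k) → ∃ P : Sylow p (GL (ZMod p) F), P ≠ Q ∧ x ∈ P := by
  have hp : p.Prime := Fact.out
  have hq : 1 < Nat.card F := Finite.one_lt_card
  have hpq : p ≤ Nat.card F - 1 := Nat.le_of_dvd (by omega) h1
  have h4 : 4 ≤ Nat.card F := by
    have := hp.two_le
    omega
  obtain ⟨u, hu⟩ := exists_prime_orderOf_dvd_card' (G := Fˣ) p (by rwa [Nat.card_units])
  have hζ : IsPrimitiveRoot (u : F) p :=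
    IsPrimitiveRoot.coe_units_iff.mpr (hu ▸ IsPrimitiveRoot.orderOf u)
  obtain ⟨Q, hQ⟩ := (wreath_isPGroup (p := p) (F := F)).exists_le_sylow
  have hQeq : (Q : Subgroup (GL (ZMod p) F)) = wreath p F :=
    wreath_maximal _ hζ hp2 h2 Q.2 hQ
  refine ⟨Q, fun x ⟨k, hk⟩ => ?_⟩
  obtain ⟨R, hR⟩ := (IsPGroup.of_card (G := Subgroup.zpowers x) (p := p) (n := k)
    (by rw [Nat.card_zpowers, hk])).exists_le_sylow
  have hxR : x ∈ R := hR (Subgroup.mem_zpowers x)
  by_cases hRQ : R = Q
  swap
  · exact ⟨R, hRQ, hxR⟩
  have hxw : x ∈ wreath p F := by rw [← hQeq, ← hRQ]; exact hxR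
  obtain ⟨g, hg, hgx⟩ := exists_escape h4 hp2 hxw
  refine ⟨g • Q, fun h => hg ?_, ?_⟩
  · apply rowMono_of_mem_normalizer _ hζ hp2
    intro n hn
    have hN := Sylow.smul_eq_iff_mem_normalizer.mp h
    change g ∈ Subgroup.normalizer ((Q : Subgroup (GL (ZMod p) F)) : Set (GL (ZMod p) F)) at hN
    rw [hQeq] at hN
    exact (Subgroup.mem_normalizer_iff.mp hN n).mp hn
  · show x ∈ ((g • Q : Sylow p (GL (ZMod p) F)) : Subgroup (GL (ZMod p) F))
    rw [Sylow.coe_subgroup_smul, Subgroup.mem_pointwise_smul_iff_inv_smul_mem, hQeq, ← map_inv,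
      MulAut.smul_def, MulAut.conj_apply, inv_inv]
    exact hgx

end Cfsg.Agent.GLSylowWreath
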